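import Groth.Agent.RelFlatLib.SmoothAmp
import Groth.Agent.PerfNoethLib.PCCoh
import Groth.Agent.DevissLib.ClosedImm
import Groth.Agent.S0019
import Groth.Agent.QCohLib.Coherent
import Groth.Agent.RelPCSchLib.Module

/-!
# Factoring a morphism of finite tor dimension through a smooth morphism
-/

set_option autoImplicit false
set_option linter.all false
set_option backward.isDefEq.respectTransparency false
set_option backward.isDefEq.respectTransparency.types false
set_option maxHeartbeats 1000000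

universe u

open CategoryTheory CategoryTheory.Limits AlgebraicGeometry HomologicalComplex
open Groth.Agent

attribute [local instance] HasDerivedCategory.standard

namespace FacTorLib

theorem push_unit_pc {Z W : Scheme.{u}} (i : Z ⟶ W) [IsClosedImmersion i] [IsLocallyNoetherian W] (m : ℤ) :
    DCoh.IsPseudoCoherentD m (DCoh.toD W
      (((Scheme.Modules.pushforward i).mapHomologicalComplex (ComplexShape.up ℤ)).obj (DerSch.unitCx Z))) := by
  let M := (Scheme.Modules.pushforward i).obj (Coh.structureModule Z)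
  have hM : Coh.IsCoh M := Groth.Agent.S0019.result i _ (DevissLib.isCoh_structureModule Z)
  let e : DCoh.inD W M ≅ DCoh.toD W
      (((Scheme.Modules.pushforward i).mapHomologicalComplex (ComplexShape.up ℤ)).obj (DerSch.unitCx Z)) :=
    (DerivedCategory.singleFunctorIsoCompQ W.Modules 0).app M ≪≫
      DerivedCategory.Q.mapIso ((singleMapHomologicalComplex (Scheme.Modules.pushforward i) (ComplexShape.up ℤ) 0).app _).symm
  refine Groth.Agent.PerfLib.isPC_of_iso e ?_
  refine PerfNoethLib.isPC_of_coherent (b := 0) fun j _ => ?_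
  rcases eq_or_ne j 0 with rfl | hj
  · exact QCohLib.isCoh_of_iso (RelPCSchLib.hdInD M).symm hM
  · rcases lt_or_gt_of_ne hj with h | h
    · exact DevissLib.isCoh_of_isZero (DerivedCategory.isZero_of_isGE _ 0 j h)
    · exact DevissLib.isCoh_of_isZero (DerivedCategory.isZero_of_isLE _ 0 j h)

theorem exists_factor {X Y : Scheme.{u}} [IsNoetherian X] [IsNoetherian Y] (f : X ⟶ Y)
    [LocallyOfFiniteType f] (hf : DerSch.HasFiniteTorDim f) (U : X.Opens) (hU : IsAffineOpen U)
    (V : Y.Opens) (hV : IsAffineOpen V) (hUV : U ≤ f ⁻¹ᵁ V) :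
    ∃ (W : Scheme.{u}) (g : (U : Scheme.{u}) ⟶ W) (h : W ⟶ Y),
      IsClosedImmersion g ∧ DerSch.HasFiniteTorDim g ∧ Smooth h ∧ g ≫ h = U.ι ≫ f := by
  letI := (f.appLE V U hUV).hom.toAlgebra
  haveI : Algebra.FiniteType Γ(Y, V) Γ(X, U) := f.finiteType_appLE hV hU hUV
  obtain ⟨n, α, hα⟩ := Algebra.FiniteType.iff_quotient_mvPolynomial''.1
    (inferInstance : Algebra.FiniteType Γ(Y, V) Γ(X, U))
  let P := MvPolynomial (Fin n) Γ(Y, V)
  let W : Scheme.{u} := Spec (CommRingCat.of P)
  let g : (U : Scheme.{u}) ⟶ W := hU.isoSpec.hom ≫ Spec.map (CommRingCat.ofHom α.toRingHom)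
  let h : W ⟶ Y := Spec.map (CommRingCat.ofHom (algebraMap Γ(Y, V) P)) ≫ hV.fromSpec
  haveI : IsNoetherianRing Γ(Y, V) := IsLocallyNoetherian.component_noetherian ⟨V, hV⟩
  haveI : IsNoetherianRing (CommRingCat.of P) := inferInstanceAs (IsNoetherianRing P)
  haveI : IsClosedImmersion (Spec.map (CommRingCat.ofHom α.toRingHom)) :=
    IsClosedImmersion.spec_of_surjective _ hα
  haveI : IsClosedImmersion g := inferInstance
  haveI : Smooth (Spec.map (CommRingCat.ofHom (algebraMap Γ(Y, V) P))) := by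
    rw [HasRingHomProperty.Spec_iff (P := @Smooth), CommRingCat.hom_ofHom]
    exact RingHom.smooth_algebraMap.2 ⟨inferInstanceAs (Algebra.FormallySmooth Γ(Y, V) (MvPolynomial _ _)),
      inferInstanceAs (Algebra.FinitePresentation Γ(Y, V) (MvPolynomial _ _))⟩
  haveI : Smooth h := inferInstance
  have hgh : g ≫ h = U.ι ≫ f := by
    have h1 : CommRingCat.ofHom (algebraMap Γ(Y, V) P) ≫ CommRingCat.ofHom α.toRingHom = f.appLE V U hUV :=
      CommRingCat.hom_ext α.comp_algebraMap
    rw [Category.assoc, ← Spec.map_comp_assoc, h1, IsAffineOpen.SpecMap_appLE_fromSpec f hV hU hUV,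
      ← Category.assoc, hU.isoSpec_hom_fromSpec]
  refine ⟨W, g, h, inferInstance, ?_, inferInstance, hgh⟩
  obtain ⟨a, b, hab⟩ := hf
  have hamp : ∀ u : (U : Scheme.{u}), DerSch.HasTorAmplitudeAt (g ≫ h) a b (DerSch.unitCx U) u := fun u => by
    rw [hgh]
    exact RelFlatLib.ampAt_of_iso _ (DerivedCategory.Q.mapIso
      ((singleMapHomologicalComplex (Groth.Agent.PerfLib.res U.ι) (ComplexShape.up ℤ) 0).app _ ≪≫
        (single _ _ 0).mapIso (Scheme.Modules.restrictUnitIso U.ι)))
      ((RelFlatLib.ampAt_restrict_iff f U.ι u a b _).2 (hab (U.ι u)))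
  choose d Vd hyV hd using fun w : W => RelFlatLib.exists_smoothRel h w
  obtain ⟨t, ht⟩ := isCompact_univ.elim_finite_subcover (fun w => (Vd w : Set W)) (fun w => (Vd w).2)
    fun w _ => Set.mem_iUnion.2 ⟨w, hyV w⟩
  let D := t.sup d
  have hA := RelFlatLib.perfectAmp_push g h (a := a) (b := b) (DerSch.unitCx U) (push_unit_pc g) ⊤ D
    (fun y _ => by
      obtain ⟨w, hw, hyw⟩ := Set.mem_iUnion₂.1 (ht (Set.mem_univ y))
      exact ⟨d w, Vd w, Finset.le_sup hw, hyw, hd w⟩) (fun u _ => hamp u)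
  refine ⟨a - D, b, fun u => ?_⟩
  have h2 := (RelFlatLib.ampAt_push_iff g (𝟙 W) u (a - D) b (DerSch.unitCx U)).1
    ((RelFlatLib.ampD_rep (𝟙 W) (Iso.refl _) (g u)).1 (hA (g u) trivial))
  rwa [Category.comp_id] at h2

end FacTorLib
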